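import Mathlib

/-!
Tables for the 27-dimensional representation of type E₆: root vectors, the 45 monomials of the
cubic form, and a sequence of steps clearing an isometry one basis vector at a time.
-/

set_option autoImplicit false

namespace CfsgLib.E6Cubic

/-- A sparse integer matrix on 27 points. -/
abbrev Sp : Type := List (Fin 27 × Fin 27 × ℤ)

/-- The root vectors, in the root numbering of the tabulated datum. -/
def rootTab : List Sp := [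
  [(11, 9, -1), (14, 12, -1), (17, 15, -1), (18, 24, 1), (19, 25, 1), (20, 26, 1)],
  [(0, 15, 1), (2, 9, -1), (13, 24, -1), (14, 21, 1), (19, 7, -1), (20, 4, 1)],
  [(0, 25, -1), (3, 24, 1), (14, 8, -1), (17, 7, 1), (20, 10, -1), (23, 9, 1)],
  [(0, 26, 1), (6, 24, -1), (14, 5, -1), (17, 4, 1), (19, 10, -1), (22, 9, 1)],
  [(0, 12, 1), (1, 9, -1), (16, 24, 1), (17, 21, -1), (19, 8, 1), (20, 5, -1)],
  [(2, 25, 1), (5, 24, -1), (11, 7, 1), (14, 6, -1), (20, 16, 1), (23, 15, -1)],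
  [(2, 26, -1), (8, 24, 1), (11, 4, 1), (14, 3, -1), (19, 16, 1), (22, 15, -1)],
  [(1, 15, 1), (2, 12, -1), (10, 24, 1), (11, 21, -1), (19, 6, 1), (20, 3, -1)],
  [(11, 10, -1), (14, 13, -1), (17, 16, -1), (21, 24, 1), (22, 25, 1), (23, 26, 1)],
  [(1, 25, -1), (4, 24, 1), (11, 8, 1), (17, 6, -1), (20, 13, -1), (23, 12, 1)],
  [(1, 26, 1), (7, 24, -1), (11, 5, 1), (17, 3, -1), (19, 13, -1), (22, 12, 1)],
  [(0, 16, 1), (2, 10, -1), (12, 24, 1), (14, 18, -1), (22, 7, -1), (23, 4, 1)],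
  [(0, 6, 1), (1, 7, 1), (2, 8, 1), (20, 18, -1), (23, 21, -1), (26, 24, -1)],
  [(0, 3, 1), (1, 4, 1), (2, 5, 1), (19, 18, -1), (22, 21, -1), (25, 24, -1)],
  [(0, 13, 1), (1, 10, -1), (15, 24, -1), (17, 18, 1), (22, 8, 1), (23, 5, -1)],
  [(1, 16, 1), (2, 13, -1), (9, 24, -1), (11, 18, 1), (22, 6, 1), (23, 3, -1)],
  [(3, 15, 1), (5, 9, -1), (13, 25, -1), (14, 22, 1), (18, 7, 1), (20, 1, -1)],
  [(6, 15, -1), (8, 9, 1), (13, 26, 1), (14, 23, -1), (18, 4, 1), (19, 1, -1)],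
  [(10, 9, 1), (13, 12, 1), (16, 15, 1), (18, 21, -1), (19, 22, -1), (20, 23, -1)],
  [(3, 26, -1), (6, 25, 1), (14, 2, -1), (17, 1, 1), (18, 10, -1), (21, 9, 1)],
  [(3, 12, -1), (4, 9, 1), (16, 25, -1), (17, 22, 1), (18, 8, 1), (20, 2, -1)],
  [(6, 12, 1), (7, 9, -1), (16, 26, 1), (17, 23, -1), (18, 5, 1), (19, 2, -1)],
  [(5, 26, 1), (8, 25, -1), (11, 1, 1), (14, 0, -1), (18, 16, 1), (21, 15, -1)],
  [(4, 15, -1), (5, 12, 1), (10, 25, -1), (11, 22, 1), (18, 6, 1), (20, 0, -1)],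
  [(7, 15, 1), (8, 12, -1), (10, 26, 1), (11, 23, -1), (18, 3, 1), (19, 0, -1)],
  [(4, 26, 1), (7, 25, -1), (11, 2, -1), (17, 0, 1), (18, 13, 1), (21, 12, -1)],
  [(0, 1, -1), (3, 4, -1), (6, 7, -1), (12, 9, 1), (13, 10, 1), (14, 11, 1)],
  [(0, 22, -1), (3, 21, 1), (13, 8, -1), (16, 7, 1), (20, 11, 1), (26, 9, -1)],
  [(0, 23, 1), (6, 21, -1), (13, 5, -1), (16, 4, 1), (19, 11, 1), (25, 9, -1)],
  [(0, 2, 1), (3, 5, 1), (6, 8, 1), (15, 9, -1), (16, 10, -1), (17, 11, -1)],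
  [(2, 1, -1), (5, 4, -1), (8, 7, -1), (12, 15, 1), (13, 16, 1), (14, 17, 1)],
  [(2, 22, -1), (5, 21, 1), (10, 7, -1), (13, 6, 1), (20, 17, 1), (26, 15, -1)],
  [(2, 23, 1), (8, 21, -1), (10, 4, -1), (13, 3, 1), (19, 17, 1), (25, 15, -1)],
  [(3, 16, 1), (5, 10, -1), (12, 25, 1), (14, 19, -1), (21, 7, 1), (23, 1, -1)],
  [(3, 6, 1), (4, 7, 1), (5, 8, 1), (20, 19, -1), (23, 22, -1), (26, 25, -1)],
  [(6, 16, 1), (8, 10, -1), (12, 26, 1), (14, 20, -1), (21, 4, -1), (22, 1, 1)],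
  [(1, 22, 1), (4, 21, -1), (10, 8, -1), (16, 6, 1), (20, 14, -1), (26, 12, 1)],
  [(6, 3, 1), (7, 4, 1), (8, 5, 1), (19, 20, -1), (22, 23, -1), (25, 26, -1)],
  [(1, 23, -1), (7, 21, 1), (10, 5, -1), (16, 3, 1), (19, 14, -1), (25, 12, 1)],
  [(3, 13, 1), (4, 10, -1), (15, 25, -1), (17, 19, 1), (21, 8, -1), (23, 2, 1)],
  [(6, 13, 1), (7, 10, -1), (15, 26, -1), (17, 20, 1), (21, 5, 1), (22, 2, -1)],
  [(1, 2, -1), (4, 5, -1), (7, 8, -1), (15, 12, 1), (16, 13, 1), (17, 14, 1)],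
  [(2, 0, 1), (5, 3, 1), (8, 6, 1), (9, 15, -1), (10, 16, -1), (11, 17, -1)],
  [(4, 16, 1), (5, 13, -1), (9, 25, -1), (11, 19, 1), (21, 6, -1), (23, 0, 1)],
  [(7, 16, 1), (8, 13, -1), (9, 26, -1), (11, 20, 1), (21, 3, 1), (22, 0, -1)],
  [(1, 0, -1), (4, 3, -1), (7, 6, -1), (9, 12, 1), (10, 13, 1), (11, 14, 1)],
  [(0, 17, 1), (2, 11, -1), (12, 21, -1), (13, 18, 1), (25, 7, -1), (26, 4, 1)],
  [(0, 19, -1), (3, 18, 1), (12, 8, -1), (15, 7, 1), (23, 11, -1), (26, 10, 1)],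
  [(0, 20, -1), (6, 18, 1), (12, 5, 1), (15, 4, -1), (22, 11, 1), (25, 10, -1)],
  [(0, 14, -1), (1, 11, 1), (15, 21, -1), (16, 18, 1), (25, 8, -1), (26, 5, 1)],
  [(2, 19, -1), (5, 18, 1), (9, 7, -1), (12, 6, 1), (23, 17, -1), (26, 16, 1)],
  [(2, 20, -1), (8, 18, 1), (9, 4, 1), (12, 3, -1), (22, 17, 1), (25, 16, -1)],
  [(1, 17, 1), (2, 14, -1), (9, 21, 1), (10, 18, -1), (25, 6, 1), (26, 3, -1)],
  [(9, 10, 1), (12, 13, 1), (15, 16, 1), (21, 18, -1), (22, 19, -1), (23, 20, -1)],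
  [(1, 19, -1), (4, 18, 1), (9, 8, 1), (15, 6, -1), (23, 14, -1), (26, 13, 1)],
  [(1, 20, -1), (7, 18, 1), (9, 5, -1), (15, 3, 1), (22, 14, 1), (25, 13, -1)],
  [(3, 23, -1), (6, 22, 1), (13, 2, -1), (16, 1, 1), (18, 11, 1), (24, 9, -1)],
  [(5, 23, -1), (8, 22, 1), (10, 1, -1), (13, 0, 1), (18, 17, 1), (24, 15, -1)],
  [(3, 0, 1), (4, 1, 1), (5, 2, 1), (18, 19, -1), (21, 22, -1), (24, 25, -1)],
  [(6, 0, 1), (7, 1, 1), (8, 2, 1), (18, 20, -1), (21, 23, -1), (24, 26, -1)],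
  [(4, 23, 1), (7, 22, -1), (10, 2, -1), (16, 0, 1), (18, 14, -1), (24, 12, 1)],
  [(3, 17, -1), (5, 11, 1), (12, 22, 1), (13, 19, -1), (24, 7, -1), (26, 1, 1)],
  [(6, 17, -1), (8, 11, 1), (12, 23, 1), (13, 20, -1), (24, 4, 1), (25, 1, -1)],
  [(10, 11, -1), (13, 14, -1), (16, 17, -1), (24, 21, 1), (25, 22, 1), (26, 23, 1)],
  [(3, 20, -1), (6, 19, 1), (12, 2, -1), (15, 1, 1), (21, 11, -1), (24, 10, 1)],
  [(3, 14, -1), (4, 11, 1), (15, 22, -1), (16, 19, 1), (24, 8, 1), (26, 2, -1)],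
  [(6, 14, -1), (7, 11, 1), (15, 23, -1), (16, 20, 1), (24, 5, -1), (25, 2, 1)],
  [(5, 20, -1), (8, 19, 1), (9, 1, -1), (12, 0, 1), (21, 17, -1), (24, 16, 1)],
  [(4, 17, 1), (5, 14, -1), (9, 22, 1), (10, 19, -1), (24, 6, -1), (26, 0, 1)],
  [(7, 17, 1), (8, 14, -1), (9, 23, 1), (10, 20, -1), (24, 3, 1), (25, 0, -1)],
  [(4, 20, 1), (7, 19, -1), (9, 2, -1), (15, 0, 1), (21, 14, 1), (24, 13, -1)],
  [(9, 11, -1), (12, 14, -1), (15, 17, -1), (24, 18, 1), (25, 19, 1), (26, 20, 1)]]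

/-- The monomials of the cubic form. -/
def monTab : List (ℤ × Fin 27 × Fin 27 × Fin 27) := [
  (1, 0, 4, 8),
  (-1, 0, 5, 7),
  (-1, 1, 3, 8),
  (1, 1, 5, 6),
  (1, 2, 3, 7),
  (-1, 2, 4, 6),
  (1, 9, 13, 17),
  (-1, 9, 14, 16),
  (-1, 10, 12, 17),
  (1, 10, 14, 15),
  (1, 11, 12, 16),
  (-1, 11, 13, 15),
  (1, 18, 22, 26),
  (-1, 18, 23, 25),
  (-1, 19, 21, 26),
  (1, 19, 23, 24),
  (1, 20, 21, 25),
  (-1, 20, 22, 24),
  (-1, 0, 9, 18),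
  (-1, 0, 10, 21),
  (-1, 0, 11, 24),
  (-1, 1, 12, 18),
  (-1, 1, 13, 21),
  (-1, 1, 14, 24),
  (-1, 2, 15, 18),
  (-1, 2, 16, 21),
  (-1, 2, 17, 24),
  (-1, 3, 9, 19),
  (-1, 3, 10, 22),
  (-1, 3, 11, 25),
  (-1, 4, 12, 19),
  (-1, 4, 13, 22),
  (-1, 4, 14, 25),
  (-1, 5, 15, 19),
  (-1, 5, 16, 22),
  (-1, 5, 17, 25),
  (-1, 6, 9, 20),
  (-1, 6, 10, 23),
  (-1, 6, 11, 26),
  (-1, 7, 12, 20),
  (-1, 7, 13, 23),
  (-1, 7, 14, 26),
  (-1, 8, 15, 20),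
  (-1, 8, 16, 23),
  (-1, 8, 17, 26)]

/-- Why a coordinate of an image vanishes. -/
inductive ZWit where
  /-- The vector is in the radical at `p`; `j` pairs with the coordinate there. -/
  | rad (p j : Fin 27)
  /-- A triangle with two fixed points. -/
  | tri (a b : Fin 27)
deriving DecidableEq

/-- One step: fixing the basis vector `k`. -/
structure Step where
  k : Fin 27
  zero : List (Fin 27 × ZWit)
  val : Option (Fin 27 × Fin 27)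
  wit : Option (Fin 27)
  piv : List (Fin 27 × ℕ × Fin 27)
  clr : List (Fin 27 × ℕ)
  sc : Option (ℕ × Fin 27)

/-- The steps. -/
def stepTab : List Step := [
  ⟨0, [], none, none, [(1, 26, 0), (2, 29, 0), (3, 13, 0), (4, 13, 1), (5, 13, 2), (6, 12, 0), (7, 12, 1), (8, 12, 2), (9, 1, 2), (10, 11, 2), (11, 46, 2), (12, 4, 0), (13, 14, 0), (14, 45, 11), (15, 1, 0), (16, 11, 0), (17, 30, 14), (18, 11, 14), (19, 33, 14), (20, 35, 14), (21, 1, 14), (22, 16, 14), (23, 17, 14), (24, 0, 18), (25, 0, 19), (26, 0, 20)], [(1, 45), (2, 42), (3, 58), (6, 59), (12, 67), (13, 57), (14, 22), (15, 70), (16, 60), (17, 25), (19, 24), (20, 23), (22, 44), (23, 43), (25, 69), (26, 68)], some (22, 14)⟩,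
  ⟨4, [], none, some 0, [(5, 41, 4), (7, 34, 4), (8, 34, 5), (9, 16, 5), (10, 33, 5), (11, 61, 5), (18, 15, 11), (21, 7, 11), (24, 0, 18)], [(1, 13), (3, 26), (5, 30), (7, 37), (9, 51), (10, 32), (11, 6), (15, 48), (16, 28), (17, 3), (18, 17), (20, 1), (21, 35), (23, 11), (24, 62), (26, 46)], some (6, 11)⟩,
  ⟨1, [(0, .rad 4 8), (2, .rad 4 6), (4, .rad 0 8), (5, .rad 0 7), (6, .rad 4 2), (7, .rad 0 5), (8, .tri 0 4), (9, .rad 0 18), (10, .rad 0 21), (11, .rad 0 24), (12, .rad 4 19), (13, .rad 4 22), (14, .rad 4 25), (18, .rad 0 9), (19, .rad 4 12), (21, .rad 0 10), (22, .rad 4 13), (24, .rad 0 11), (25, .rad 4 14)], none, none, [(15, 7, 1), (16, 15, 1), (17, 52, 1), (20, 40, 17), (23, 18, 20), (26, 0, 20), (3, 7, 20)], [(15, 64), (16, 56), (17, 19), (20, 16), (23, 33), (26, 61)], some (16, 20)⟩,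
  ⟨8, [], some (0, 4), none, [], [(2, 12), (5, 34), (6, 29), (7, 41), (9, 54), (10, 36), (11, 9), (12, 47), (13, 27), (14, 2), (18, 20), (19, 4), (21, 39), (22, 14), (24, 65), (25, 49)], none⟩,
  ⟨2, [(0, .tri 4 8), (1, .rad 8 3), (3, .tri 1 8), (4, .tri 0 8), (5, .rad 0 7), (6, .rad 1 5), (7, .rad 0 5), (8, .tri 0 4), (9, .rad 0 18), (10, .rad 0 21), (11, .rad 0 24), (12, .rad 1 18), (13, .rad 1 21), (14, .rad 1 24), (15, .rad 8 20), (16, .rad 8 23), (17, .rad 8 26), (18, .rad 0 9), (20, .rad 8 15), (21, .rad 0 10), (23, .rad 8 16), (24, .rad 0 11), (26, .rad 8 17)], none, none, [(19, 50, 2), (22, 18, 19), (25, 0, 19)], [(19, 21), (22, 40), (25, 66)], some (21, 19)⟩,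
  ⟨3, [(0, .tri 4 8), (2, .rad 4 6), (4, .tri 0 8), (5, .rad 0 7), (6, .rad 4 2), (7, .rad 0 5), (8, .tri 0 4), (9, .rad 0 18), (10, .rad 0 21), (11, .rad 0 24), (12, .rad 4 19), (13, .rad 4 22), (14, .rad 4 25), (18, .rad 0 9), (19, .rad 4 12), (21, .rad 0 10), (22, .rad 4 13), (24, .rad 0 11), (25, .rad 4 14)], some (1, 8), none, [], [(15, 55), (16, 38), (17, 10), (20, 7), (23, 15), (26, 52)], none⟩,
  ⟨6, [(0, .tri 4 8), (1, .rad 8 3), (2, .rad 3 7), (3, .tri 1 8), (4, .tri 0 8), (5, .rad 0 7), (7, .rad 0 5), (8, .tri 0 4), (9, .rad 0 18), (10, .rad 0 21), (11, .rad 0 24), (15, .rad 8 20), (16, .rad 8 23), (17, .rad 8 26), (18, .rad 0 9), (19, .rad 3 9), (20, .rad 8 15), (21, .rad 0 10), (22, .rad 3 10), (23, .rad 8 16), (24, .rad 0 11), (25, .rad 3 11), (26, .rad 8 17)], some (2, 4), none, [], [(12, 50), (13, 31), (14, 5)], none⟩,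
  ⟨5, [(0, .tri 4 8), (1, .rad 8 3), (2, .tri 4 6), (3, .tri 1 8), (4, .tri 0 8), (6, .rad 4 2), (7, .tri 2 3), (8, .tri 0 4), (9, .rad 3 19), (10, .rad 3 22), (11, .rad 3 25), (12, .rad 4 19), (13, .rad 4 22), (14, .rad 4 25), (15, .rad 8 20), (16, .rad 8 23), (17, .rad 8 26), (18, .rad 2 15), (19, .rad 4 12), (20, .rad 8 15), (21, .rad 2 16), (22, .rad 4 13), (23, .rad 8 16), (24, .rad 2 17), (25, .rad 4 14), (26, .rad 8 17)], some (1, 6), none, [], [], none⟩,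
  ⟨7, [(0, .tri 4 8), (1, .rad 8 3), (2, .tri 4 6), (3, .tri 1 8), (4, .tri 0 8), (5, .tri 1 6), (6, .rad 4 2), (8, .tri 0 4), (9, .rad 6 20), (10, .rad 6 23), (11, .rad 6 26), (12, .rad 4 19), (13, .rad 4 22), (14, .rad 4 25), (15, .rad 8 20), (16, .rad 8 23), (17, .rad 8 26), (18, .rad 1 12), (19, .rad 4 12), (20, .rad 8 15), (21, .rad 1 13), (22, .rad 4 13), (23, .rad 8 16), (24, .rad 1 14), (25, .rad 4 14), (26, .rad 8 17)], some (2, 3), none, [], [], none⟩,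
  ⟨9, [(0, .tri 4 8), (1, .rad 8 3), (2, .tri 4 6), (3, .tri 1 8), (4, .tri 0 8), (5, .tri 0 7), (6, .rad 4 2), (7, .tri 0 5), (8, .tri 0 4), (12, .rad 4 19), (13, .rad 4 22), (14, .rad 4 25), (15, .rad 8 20), (16, .rad 8 23), (17, .rad 8 26), (18, .rad 1 12), (19, .rad 4 12), (20, .rad 8 15), (21, .rad 1 13), (22, .rad 4 13), (23, .rad 8 16), (24, .rad 1 14), (25, .rad 4 14), (26, .rad 8 17)], none, none, [(10, 53, 9), (11, 63, 10)], [(10, 18), (11, 0)], some (0, 11)⟩,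
  ⟨13, [(0, .tri 4 8), (1, .rad 8 3), (2, .tri 4 6), (3, .tri 1 8), (4, .tri 0 8), (5, .tri 0 7), (6, .tri 1 5), (7, .tri 0 5), (8, .tri 0 4), (9, .rad 0 18), (10, .rad 0 21), (11, .rad 0 24), (15, .rad 8 20), (16, .rad 8 23), (17, .rad 8 26), (18, .tri 0 9), (19, .tri 3 9), (20, .rad 8 15), (21, .rad 0 10), (22, .rad 3 10), (23, .rad 8 16), (24, .rad 0 11), (25, .rad 3 11), (26, .rad 8 17)], none, some 9, [(14, 63, 13)], [(12, 53), (14, 8)], some (8, 14)⟩,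
  ⟨17, [(0, .tri 4 8), (1, .tri 3 8), (2, .tri 4 6), (3, .tri 1 8), (4, .tri 0 8), (5, .tri 0 7), (6, .rad 4 2), (7, .tri 0 5), (8, .tri 0 4), (9, .rad 0 18), (10, .rad 0 21), (11, .rad 0 24), (12, .rad 4 19), (13, .rad 4 22), (14, .rad 4 25), (18, .tri 0 9), (19, .rad 4 12), (20, .tri 6 9), (21, .rad 0 10), (22, .tri 4 13), (23, .rad 6 10), (24, .rad 0 11), (25, .rad 4 14), (26, .rad 6 11)], some (9, 13), none, [], [(15, 71), (16, 63)], none⟩,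
  ⟨18, [(0, .tri 4 8), (1, .rad 8 3), (2, .tri 4 6), (3, .tri 1 8), (4, .tri 0 8), (5, .tri 0 7), (6, .rad 4 2), (7, .tri 0 5), (8, .tri 0 4), (9, .rad 3 19), (10, .rad 3 22), (11, .rad 3 25), (12, .rad 4 19), (13, .rad 4 22), (14, .rad 4 25), (15, .rad 8 20), (16, .rad 8 23), (17, .rad 8 26), (19, .rad 4 12), (20, .rad 8 15), (21, .tri 1 13), (22, .tri 4 13), (23, .rad 8 16), (24, .tri 2 17), (25, .rad 4 14), (26, .tri 8 17)], some (0, 9), none, [], [], none⟩,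
  ⟨12, [(0, .tri 4 8), (1, .rad 8 3), (2, .tri 4 6), (3, .tri 1 8), (4, .tri 0 8), (5, .tri 0 7), (6, .tri 1 5), (7, .tri 0 5), (8, .tri 0 4), (9, .tri 0 18), (10, .rad 0 21), (11, .rad 0 24), (13, .tri 9 17), (14, .rad 9 16), (15, .rad 8 20), (16, .rad 8 23), (17, .rad 8 26), (18, .tri 0 9), (19, .tri 3 9), (20, .rad 8 15), (21, .rad 0 10), (22, .tri 4 13), (23, .rad 8 16), (24, .rad 0 11), (25, .rad 3 11), (26, .tri 8 17)], some (1, 18), none, [], [], none⟩,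
  ⟨10, [(0, .tri 4 8), (1, .rad 8 3), (2, .tri 4 6), (3, .tri 1 8), (4, .tri 0 8), (5, .tri 0 7), (6, .rad 4 2), (7, .tri 0 5), (8, .tri 0 4), (9, .tri 0 18), (11, .rad 13 15), (12, .rad 4 19), (13, .rad 4 22), (14, .rad 4 25), (15, .rad 8 20), (16, .rad 8 23), (17, .rad 8 26), (18, .tri 0 9), (19, .tri 4 12), (20, .rad 8 15), (21, .tri 1 13), (22, .tri 4 13), (23, .rad 8 16), (24, .rad 1 14), (25, .rad 4 14), (26, .tri 8 17)], some (12, 17), none, [], [], none⟩,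
  ⟨15, [(0, .tri 4 8), (1, .tri 3 8), (2, .tri 4 6), (3, .tri 1 8), (4, .tri 0 8), (5, .tri 0 7), (6, .rad 4 2), (7, .tri 0 5), (8, .tri 0 4), (9, .tri 0 18), (10, .rad 0 21), (11, .rad 0 24), (12, .rad 4 19), (13, .rad 4 22), (14, .rad 4 25), (16, .rad 9 14), (17, .tri 9 13), (18, .tri 0 9), (19, .tri 4 12), (20, .tri 6 9), (21, .tri 0 10), (22, .tri 4 13), (23, .tri 6 10), (24, .rad 0 11), (25, .rad 4 14), (26, .tri 8 17)], some (2, 18), none, [], [], none⟩,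
  ⟨11, [(0, .tri 4 8), (1, .rad 8 3), (2, .tri 4 6), (3, .tri 1 8), (4, .tri 0 8), (5, .tri 0 7), (6, .rad 4 2), (7, .tri 0 5), (8, .tri 0 4), (9, .tri 0 18), (10, .rad 17 12), (12, .rad 4 19), (13, .rad 4 22), (14, .rad 4 25), (15, .rad 8 20), (16, .rad 8 23), (17, .rad 8 26), (18, .tri 0 9), (19, .tri 4 12), (20, .tri 8 15), (21, .tri 0 10), (22, .tri 4 13), (23, .rad 8 16), (24, .rad 1 14), (25, .rad 4 14), (26, .tri 8 17)], some (13, 15), none, [], [], none⟩,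
  ⟨14, [(0, .tri 4 8), (1, .rad 8 3), (2, .tri 4 6), (3, .tri 1 8), (4, .tri 0 8), (5, .tri 0 7), (6, .tri 1 5), (7, .tri 0 5), (8, .tri 0 4), (9, .tri 0 18), (10, .rad 0 21), (11, .rad 0 24), (12, .tri 1 18), (13, .tri 9 17), (15, .rad 8 20), (16, .rad 8 23), (17, .rad 8 26), (18, .tri 0 9), (19, .tri 4 12), (20, .tri 8 15), (21, .tri 0 10), (22, .tri 4 13), (23, .rad 8 16), (24, .tri 0 11), (25, .tri 3 11), (26, .tri 8 17)], some (10, 15), none, [], [], none⟩,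
  ⟨16, [(0, .tri 4 8), (1, .tri 3 8), (2, .tri 4 6), (3, .tri 1 8), (4, .tri 0 8), (5, .tri 0 7), (6, .rad 4 2), (7, .tri 0 5), (8, .tri 0 4), (9, .tri 0 18), (10, .rad 0 21), (11, .rad 0 24), (12, .rad 4 19), (13, .rad 4 22), (14, .rad 4 25), (15, .tri 2 18), (17, .tri 9 13), (18, .tri 0 9), (19, .tri 4 12), (20, .tri 8 15), (21, .tri 0 10), (22, .tri 4 13), (23, .tri 6 10), (24, .tri 0 11), (25, .tri 4 14), (26, .tri 8 17)], some (11, 12), none, [], [], none⟩,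
  ⟨19, [(0, .tri 4 8), (1, .rad 8 3), (2, .tri 4 6), (3, .tri 1 8), (4, .tri 0 8), (5, .tri 0 7), (6, .tri 1 5), (7, .tri 0 5), (8, .tri 0 4), (9, .tri 0 18), (10, .rad 0 21), (11, .rad 0 24), (12, .tri 1 18), (13, .rad 1 21), (14, .rad 1 24), (15, .rad 8 20), (16, .rad 8 23), (17, .rad 8 26), (18, .tri 0 9), (20, .tri 8 15), (21, .tri 0 10), (22, .tri 4 13), (23, .tri 8 16), (24, .tri 0 11), (25, .tri 4 14), (26, .tri 8 17)], some (5, 15), none, [], [], none⟩,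
  ⟨20, [(0, .tri 4 8), (1, .tri 3 8), (2, .tri 4 6), (3, .tri 1 8), (4, .tri 0 8), (5, .tri 0 7), (6, .rad 4 2), (7, .tri 0 5), (8, .tri 0 4), (9, .tri 0 18), (10, .rad 0 21), (11, .rad 0 24), (12, .tri 4 19), (13, .rad 4 22), (14, .rad 4 25), (15, .tri 2 18), (16, .rad 2 21), (17, .rad 2 24), (18, .tri 0 9), (19, .tri 4 12), (21, .tri 0 10), (22, .tri 4 13), (23, .tri 8 16), (24, .tri 0 11), (25, .tri 4 14), (26, .tri 8 17)], some (7, 12), none, [], [], none⟩,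
  ⟨21, [(0, .tri 4 8), (1, .rad 8 3), (2, .tri 4 6), (3, .tri 1 8), (4, .tri 0 8), (5, .tri 0 7), (6, .rad 4 2), (7, .tri 0 5), (8, .tri 0 4), (9, .tri 0 18), (10, .rad 3 22), (11, .rad 3 25), (12, .tri 4 19), (13, .rad 4 22), (14, .rad 4 25), (15, .tri 8 20), (16, .rad 8 23), (17, .rad 8 26), (18, .tri 0 9), (19, .tri 4 12), (20, .tri 8 15), (22, .tri 4 13), (23, .tri 8 16), (24, .tri 0 11), (25, .tri 4 14), (26, .tri 8 17)], some (2, 16), none, [], [], none⟩,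
  ⟨22, [(0, .tri 4 8), (1, .rad 8 3), (2, .tri 4 6), (3, .tri 1 8), (4, .tri 0 8), (5, .tri 0 7), (6, .tri 1 5), (7, .tri 0 5), (8, .tri 0 4), (9, .tri 0 18), (10, .tri 0 21), (11, .rad 0 24), (12, .tri 4 19), (13, .tri 1 21), (14, .rad 1 24), (15, .tri 8 20), (16, .rad 8 23), (17, .rad 8 26), (18, .tri 0 9), (19, .tri 4 12), (20, .tri 8 15), (21, .tri 0 10), (23, .tri 8 16), (24, .tri 0 11), (25, .tri 4 14), (26, .tri 8 17)], some (5, 16), none, [], [], none⟩,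
  ⟨23, [(0, .tri 4 8), (1, .tri 3 8), (2, .tri 4 6), (3, .tri 1 8), (4, .tri 0 8), (5, .tri 0 7), (6, .rad 4 2), (7, .tri 0 5), (8, .tri 0 4), (9, .tri 0 18), (10, .tri 0 21), (11, .rad 0 24), (12, .tri 4 19), (13, .tri 4 22), (14, .rad 4 25), (15, .tri 8 20), (16, .tri 2 21), (17, .rad 2 24), (18, .tri 0 9), (19, .tri 4 12), (20, .tri 8 15), (21, .tri 0 10), (22, .tri 4 13), (24, .tri 0 11), (25, .tri 4 14), (26, .tri 8 17)], some (7, 13), none, [], [], none⟩,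
  ⟨24, [(0, .tri 4 8), (1, .rad 8 3), (2, .tri 4 6), (3, .tri 1 8), (4, .tri 0 8), (5, .tri 0 7), (6, .rad 4 2), (7, .tri 0 5), (8, .tri 0 4), (9, .tri 0 18), (10, .tri 0 21), (11, .rad 3 25), (12, .tri 4 19), (13, .tri 4 22), (14, .rad 4 25), (15, .tri 8 20), (16, .tri 8 23), (17, .rad 8 26), (18, .tri 0 9), (19, .tri 4 12), (20, .tri 8 15), (21, .tri 0 10), (22, .tri 4 13), (23, .tri 8 16), (25, .tri 4 14), (26, .tri 8 17)], some (20, 22), none, [], [], none⟩,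
  ⟨25, [(0, .tri 4 8), (1, .rad 8 3), (2, .tri 4 6), (3, .tri 1 8), (4, .tri 0 8), (5, .tri 0 7), (6, .tri 1 5), (7, .tri 0 5), (8, .tri 0 4), (9, .tri 0 18), (10, .tri 0 21), (11, .tri 0 24), (12, .tri 4 19), (13, .tri 4 22), (14, .tri 1 24), (15, .tri 8 20), (16, .tri 8 23), (17, .rad 8 26), (18, .tri 0 9), (19, .tri 4 12), (20, .tri 8 15), (21, .tri 0 10), (22, .tri 4 13), (23, .tri 8 16), (24, .tri 0 11), (26, .tri 8 17)], some (20, 21), none, [], [], none⟩,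
  ⟨26, [(0, .tri 4 8), (1, .tri 3 8), (2, .tri 4 6), (3, .tri 1 8), (4, .tri 0 8), (5, .tri 0 7), (6, .rad 4 2), (7, .tri 0 5), (8, .tri 0 4), (9, .tri 0 18), (10, .tri 0 21), (11, .tri 0 24), (12, .tri 4 19), (13, .tri 4 22), (14, .tri 4 25), (15, .tri 8 20), (16, .tri 8 23), (17, .tri 2 24), (18, .tri 0 9), (19, .tri 4 12), (20, .tri 8 15), (21, .tri 0 10), (22, .tri 4 13), (23, .tri 8 16), (24, .tri 0 11), (25, .tri 4 14)], some (19, 21), none, [], [], none⟩]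

end CfsgLib.E6Cubic
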